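import Cfsg.Agent.H246.Dl.Defs
import Cfsg.Agent.Nodes.RGDChev
import Cfsg.Agent.KFacts.RgdChevCoord
import Cfsg.Agent.GpExc.Field
import Cfsg.Agent.H541.PRegFus
import Cfsg.Agent.H795.RowsA
import Cfsg.Agent.H778.ExcMain
import Cfsg.Agent.S1035
import Cfsg.Agent.S1059
import Cfsg.Agent.S1061
import Cfsg.Agent.S1062
import Cfsg.Agent.S1063
import Cfsg.Agent.S1064
import Cfsg.Agent.S1065

/-!
# Sylow subgroups in the normaliser of the torus (S4769, task DL-TORUS; helper628)

* `card_NN` : `|N| = |T| |W|` for a root group datum;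
* `dlLe_of_torus` : `|Y|_p` divides `|T| |W|`, the Sylow `p`-subgroups of `W` have derived length at most `d`: those of
  `Y` have derived length at most `d + 1`;
* `dlLe_of_card` : the hypothesis on `W` in terms of the order of `W`;
* `dlLe_E6` .. `dlLe_G2` : the Chevalley groups over a field with `q` elements, `p ∣ q - 1` (`4 ∣ q - 1` if `p = 2`);
* `exists_hom_ext`, `exists_field_ext` : extension of the field.
-/

set_option autoImplicit false
set_option linter.unusedSectionVars false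

namespace Cfsg.Agent.H628.Dl

open CoxeterSystem Cfsg Cfsg.Lie Cfsg.Agent.ChevalleyStructure.CoxeterGeom Cfsg.Agent.Tits.Roots Cfsg.Agent.Tits.Core
  Cfsg.Agent.Nodes.Reps Cfsg.Agent.Nodes.BNOf Cfsg.Agent.H246.Dl Cfsg.Agent.H541.PRegFus

universe u v w

section RGD

variable {I W Y : Type*} [Fintype I] [DecidableEq I] [Group W] [Group Y] {M : CoxeterMatrix I}
  {cs : CoxeterSystem M W} {A : I → I → ℤ} {h : IsCartan M A} {r : ℕ} {T : Subgroup Y} {n : I → Y}
  {X : (I → ℤ) → Subgroup Y}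

/-- the element of `W` represented by an element of `Y` is unique -/
theorem rp_unique [Finite W] (R : RGD cs h r T n X) {v w : W} {g : Y} (hv : Rp cs R.nsys v g)
    (hw : Rp cs R.nsys w g) : v = w := by
  have h1 : Rp cs R.nsys (v⁻¹ * w) (g⁻¹ * g) := hv.inv.mul hw
  rw [inv_mul_cancel] at h1
  have h2 := R.eq_one_of_mem_B h1 (one_mem _)
  exact (inv_mul_eq_one.1 h2)

/-- the projection `N → W` -/
theorem exists_proj [Finite W] (R : RGD cs h r T n X) :
    ∃ φ : ↥(NN cs R.nsys) →* W, Function.Surjective φ ∧ (∀ g, Rp cs R.nsys (φ g) (g : Y)) ∧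
      ∀ g, φ g = 1 ↔ (g : Y) ∈ T := by
  classical
  choose f hf using fun g : ↥(NN cs R.nsys) => mem_NN.1 g.2
  refine ⟨MonoidHom.mk' f fun a b => ?_, fun w => ?_, hf, fun g => ?_⟩
  · exact rp_unique R (hf (a * b)) ((hf a).mul (hf b))
  · obtain ⟨g, hg⟩ := exists_rp cs R.nsys w
    exact ⟨⟨g, mem_NN.2 ⟨w, hg⟩⟩, rp_unique R (hf _) hg⟩
  · constructor
    · intro h1
      have h2 := hf g
      rw [show f g = 1 from h1] at h2
      exact h2.mem_of_one
    · intro h1
      exact rp_unique R (hf g) (rp_of_mem h1)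

/-- **The order of `N`.** -/
theorem card_NN [Finite W] [Finite Y] (R : RGD cs h r T n X) :
    Nat.card ↥(NN cs R.nsys) = Nat.card ↥T * Nat.card W := by
  obtain ⟨φ, hs, -, hT⟩ := exists_proj R
  have hk : Nat.card ↥φ.ker = Nat.card ↥T := by
    refine Nat.card_congr
      ⟨fun g => ⟨(g : ↥(NN cs R.nsys)), (hT g.1).1 g.2⟩, fun t => ⟨⟨t, T_le_NN R t.2⟩, (hT _).2 t.2⟩, fun g => ?_, fun t => ?_⟩
    · rfl
    · rfl
  rw [Subgroup.card_eq_card_quotient_mul_card_subgroup φ.ker, hk,
    Nat.card_congr (QuotientGroup.quotientKerEquivOfSurjective φ hs).toEquiv, mul_comm]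

/-- **DL-TORUS.** If `|Y|_p` divides `|T| |W|` and `T` is abelian then the derived length of a Sylow `p`-subgroup of
`Y` is at most one more than the one of `W`. -/
theorem dlLe_of_torus [Finite W] [Finite Y] (R : RGD cs h r T n X) {p d : ℕ} [hp : Fact p.Prime]
    (hT : ∀ a ∈ T, ∀ b ∈ T, a * b = b * a)
    (hcard : p ^ padicValNat p (Nat.card Y) ∣ Nat.card ↥T * Nat.card W) (hW : DlLe p d W) : DlLe p (d + 1) Y := by
  classical
  obtain ⟨φ, hs, -, hφ⟩ := exists_proj R
  -- a Sylow subgroup of `N`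
  obtain ⟨Q⟩ : Nonempty (Sylow p ↥(NN cs R.nsys)) := inferInstance
  have hQ : derivedSeries ↥(Q : Subgroup ↥(NN cs R.nsys)) (d + 1) = ⊥ := by
    let f : ↥(Q : Subgroup ↥(NN cs R.nsys)) →* W := φ.comp (Q : Subgroup ↥(NN cs R.nsys)).subtype
    have himg : IsPGroup p ↥f.range := by
      have h1 := Q.isPGroup'.map φ
      have h2 : f.range = (Q : Subgroup ↥(NN cs R.nsys)).map φ := by
        rw [MonoidHom.range_comp, Subgroup.range_subtype]
      rw [h2]
      exact h1
    obtain ⟨P, hP⟩ := himg.exists_le_sylow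
    have h3 : (derivedSeries ↥(Q : Subgroup ↥(NN cs R.nsys)) d).map f ≤ ⊥ := by
      let f' : ↥(Q : Subgroup ↥(NN cs R.nsys)) →* ↥(P : Subgroup W) := f.codRestrict _ fun x => hP ⟨x, rfl⟩
      have h4 : (derivedSeries ↥(Q : Subgroup ↥(NN cs R.nsys)) d).map f' ≤ derivedSeries ↥(P : Subgroup W) d :=
        map_derivedSeries_le_derivedSeries f' d
      rw [hW P] at h4
      rintro _ ⟨x, hx, rfl⟩
      have h5 := h4 ⟨x, hx, rfl⟩
      rw [Subgroup.mem_bot] at h5 ⊢
      exact congrArg Subtype.val h5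
    have h4 : ∀ x ∈ derivedSeries ↥(Q : Subgroup ↥(NN cs R.nsys)) d, ((x : ↥(NN cs R.nsys)) : Y) ∈ T := by
      intro x hx
      exact (hφ _).1 (Subgroup.mem_bot.1 (h3 ⟨x, hx, rfl⟩))
    rw [derivedSeries_succ, eq_bot_iff, Subgroup.commutator_le]
    intro a ha b hb
    rw [Subgroup.mem_bot, commutatorElement_eq_one_iff_mul_comm]
    exact Subtype.ext (Subtype.ext (hT _ (h4 a ha) _ (h4 b hb)))
  -- it is a Sylow subgroup of `Y`
  have hcN : Nat.card ↥((Q : Subgroup ↥(NN cs R.nsys)).map (NN cs R.nsys).subtype) =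
      p ^ (Nat.card Y).factorization p := by
    have h1 : Nat.card ↥((Q : Subgroup ↥(NN cs R.nsys)).map (NN cs R.nsys).subtype) =
        Nat.card ↥(Q : Subgroup ↥(NN cs R.nsys)) :=
      Nat.card_congr ((Q : Subgroup ↥(NN cs R.nsys)).equivMapOfInjective _ (NN cs R.nsys).subtype_injective).symm.toEquiv
    have h2 := Q.card_eq_multiplicity
    rw [h1, h2]
    congr 1
    refine le_antisymm ?_ ?_
    · exact (Nat.factorization_le_iff_dvd Nat.card_pos.ne' Nat.card_pos.ne').2
        (Subgroup.card_subgroup_dvd_card (NN cs R.nsys)) p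
    · rw [← card_NN R, ← Nat.factorization_def _ hp.out] at hcard
      exact (hp.out.pow_dvd_iff_le_factorization Nat.card_pos.ne').1 hcard
  let S : Sylow p Y := Sylow.ofCard _ hcN
  intro P
  obtain ⟨g, hg⟩ := MulAction.exists_smul_eq Y S P
  have e1 : ↥(S : Subgroup Y) ≃* ↥(P : Subgroup Y) := by
    rw [← hg]
    exact S.equivSMul g
  have e2 : ↥(Q : Subgroup ↥(NN cs R.nsys)) ≃* ↥(S : Subgroup Y) :=
    (Q : Subgroup ↥(NN cs R.nsys)).equivMapOfInjective _ (NN cs R.nsys).subtype_injective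
  let e := (e2.trans e1).symm
  have h5 : (derivedSeries ↥(P : Subgroup Y) (d + 1)).map e.toMonoidHom ≤
      derivedSeries ↥(Q : Subgroup ↥(NN cs R.nsys)) (d + 1) := map_derivedSeries_le_derivedSeries e.toMonoidHom (d + 1)
  rw [hQ, le_bot_iff, Subgroup.map_eq_bot_iff] at h5
  rw [eq_bot_iff]
  intro x hx
  have h6 := h5 hx
  rw [MonoidHom.mem_ker] at h6
  rw [Subgroup.mem_bot]
  exact e.injective (by rw [map_one]; exact h6)

end RGD

/-! ### the numbers -/

section Val

variable {p q : ℕ} [hp : Fact p.Prime]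

theorem exists_geom (a : ℕ) (n : ℕ) : ∃ s, (4 * a + 1) ^ n = 1 + 4 * a * s ∧ (s + n) % 2 = 0 := by
  induction n with
  | zero => exact ⟨0, by simp, rfl⟩
  | succ n ih =>
    obtain ⟨s, hs, h2⟩ := ih
    refine ⟨1 + s * (4 * a + 1), ?_, ?_⟩
    · rw [pow_succ, hs]
      ring
    · have : 1 + s * (4 * a + 1) + (n + 1) = 2 * (2 * (a * s) + 1) + (s + n) := by ring
      rw [this, Nat.mul_add_mod]
      exact h2

/-- lifting the exponent -/
theorem val_pow_sub (h2 : 2 ≤ q) (h : p ∣ q - 1) (h4 : p = 2 → 4 ∣ q - 1) {n : ℕ} (hn : n ≠ 0) :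
    padicValNat p (q ^ n - 1) = padicValNat p (q - 1) + padicValNat p n := by
  have hq : ¬ p ∣ q := by
    intro h0
    have h1 : p ∣ 1 := by
      have h3 : q - (q - 1) = 1 := by omega
      rw [← h3]
      exact Nat.dvd_sub h0 h
    exact hp.out.one_lt.ne' (Nat.dvd_one.1 h1)
  by_cases hp2 : p = 2
  · subst hp2
    obtain ⟨a, ha⟩ := h4 rfl
    rcases Nat.even_or_odd n with he | ho
    · have h5 := padicValNat.pow_two_sub_pow (x := q) (y := 1) (by omega) h hq hn he
      rw [one_pow] at h5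
      have h6 : padicValNat 2 (q + 1) = 1 := by
        have h7 : q + 1 = 2 * (2 * a + 1) := by omega
        rw [h7, padicValNat.mul (by norm_num) (by omega), padicValNat.self (by norm_num),
          padicValNat.eq_zero_of_not_dvd (by omega)]
      rw [h6] at h5
      omega
    · obtain ⟨s, hs, hs2⟩ := exists_geom a n
      have hn2 : ¬ 2 ∣ n := fun h0 => by
        obtain ⟨c, hc⟩ := ho
        omega
      have hs3 : ¬ 2 ∣ s := by omega
      have h7 : q = 4 * a + 1 := by omega
      rw [padicValNat.eq_zero_of_not_dvd hn2, add_zero, h7, hs, Nat.add_sub_cancel_left, Nat.add_sub_cancel,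
        padicValNat.mul (by omega) (by rintro rfl; exact hs3 (dvd_zero 2)), padicValNat.eq_zero_of_not_dvd hs3, add_zero]
  · have h5 := padicValNat.pow_sub_pow (hp.out.odd_of_ne_two hp2) (x := q) (y := 1) (by omega) h hq hn
    rwa [one_pow] at h5

/-- the `p`-part of the product of the `q ^ d - 1` -/
theorem val_prod (h2 : 2 ≤ q) (h : p ∣ q - 1) (h4 : p = 2 → 4 ∣ q - 1) (L : List ℕ) (hL : ∀ d ∈ L, d ≠ 0) :
    padicValNat p (L.map fun d => q ^ d - 1).prod = padicValNat p ((q - 1) ^ L.length * L.prod) ∧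
      (L.map fun d => q ^ d - 1).prod ≠ 0 ∧ L.prod ≠ 0 := by
  induction L with
  | nil => simp
  | cons d L ih =>
    obtain ⟨h5, h6, h7⟩ := ih fun e he => hL e (List.mem_cons_of_mem d he)
    have hd := hL d List.mem_cons_self
    have hq1 : q - 1 ≠ 0 := by omega
    have hqd : q ^ d - 1 ≠ 0 := by
      have h8 : 2 ^ 1 ≤ q ^ d := (Nat.pow_le_pow_right (by norm_num) (Nat.one_le_iff_ne_zero.2 hd)).trans
        (Nat.pow_le_pow_left h2 d)
      omega
    refine ⟨?_, ?_, ?_⟩
    · rw [List.map_cons, List.prod_cons, padicValNat.mul hqd h6, h5, val_pow_sub h2 h h4 hd, List.length_cons,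
        List.prod_cons, pow_succ, padicValNat.mul (pow_ne_zero _ hq1) h7,
        padicValNat.mul (mul_ne_zero (pow_ne_zero _ hq1) hq1) (mul_ne_zero hd h7),
        padicValNat.mul (pow_ne_zero _ hq1) hq1, padicValNat.mul hd h7]
      ring
    · rw [List.map_cons, List.prod_cons]
      exact mul_ne_zero hqd h6
    · rw [List.prod_cons]
      exact mul_ne_zero hd h7

/-- the condition on the orders in `dlLe_of_torus` -/
theorem dvd_of_orders {g N y t w : ℕ} (hpq : ¬ p ∣ q) (h2 : 2 ≤ q) (h : p ∣ q - 1) (h4 : p = 2 → 4 ∣ q - 1)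
    {L : List ℕ} (hL : ∀ d ∈ L, d ≠ 0) (hg : g ≠ 0) (hy : g * y = q ^ N * (L.map fun d => q ^ d - 1).prod)
    (ht : g * t = (q - 1) ^ L.length) (hw : w = L.prod) : p ^ padicValNat p y ∣ t * w := by
  obtain ⟨h5, h6, h7⟩ := val_prod h2 h h4 L hL
  have hq0 : q ^ N ≠ 0 := pow_ne_zero _ (by omega)
  have hy0 : y ≠ 0 := by
    rintro rfl
    rw [mul_zero] at hy
    exact mul_ne_zero hq0 h6 hy.symm
  have ht0 : t ≠ 0 := by
    rintro rfl
    rw [mul_zero] at ht
    exact pow_ne_zero _ (by omega) ht.symm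
  have h8 : padicValNat p (g * y) = padicValNat p (g * t * w) := by
    rw [hy, padicValNat.mul hq0 h6, padicValNat.eq_zero_of_not_dvd (fun h0 => hpq (hp.out.dvd_of_dvd_pow h0)),
      zero_add, h5, ht, hw]
  rw [padicValNat.mul hg hy0, mul_assoc, padicValNat.mul hg (mul_ne_zero ht0 (hw ▸ h7))] at h8
  have h9 : padicValNat p y = padicValNat p (t * w) := by omega
  rw [h9]
  exact pow_padicValNat_dvd

end Val

/-! ### the Chevalley groups -/

section Chev

open Cfsg.Lie.ChevalleyDatum Cfsg.Agent.ChevalleyStructure Cfsg.Agent.ChevalleyStructure.Elts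
  Cfsg.Agent.ChevalleyStructure.CoxeterGeomTypes Cfsg.Agent.Nodes.RGDChev Cfsg.Agent.H795.RowsA

variable {D : ChevalleyDatum} {l : ℕ} {M : CoxeterMatrix (Fin l)}

theorem diag_comm (hD : InList D) {K : Type u} [Field K] {a b : GL D.Idx K} (ha : a ∈ D.diagonalSubgroup K)
    (hb : b ∈ D.diagonalSubgroup K) : a * b = b * a := by
  obtain ⟨χ, hχ⟩ := HMatDiagAll.mem_torus.1 (HMatDiagAll.diagonalSubgroup_le_torus hD ha)
  obtain ⟨ψ, hψ⟩ := HMatDiagAll.mem_torus.1 (HMatDiagAll.diagonalSubgroup_le_torus hD hb)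
  apply Units.ext
  rw [Units.val_mul, Units.val_mul, hχ, hψ, Matrix.diagonal_mul_diagonal, Matrix.diagonal_mul_diagonal]
  congr 1
  funext i
  exact mul_comm _ _

/-- **DL-TORUS for the Chevalley groups** `D.group F`, `F` a field with `q` elements, `p ∣ q - 1`. -/
theorem dlLe_chev (hp' : IsType D l M) {F : Type u} [Field F] [Fintype F] {q : ℕ} (hq : Fintype.card F = q)
    {g N : ℕ} {L : List ℕ} (hL : ∀ d ∈ L, d ≠ 0) (hg : g ≠ 0)
    (hy : g * Nat.card ↥(D.group F) = q ^ N * (L.map fun d => q ^ d - 1).prod)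
    (ht : g * Nat.card ↥(D.diagonalSubgroup F) = (q - 1) ^ D.rank) (hl : L.length = D.rank)
    (hw : Nat.card M.Group = L.prod) {p d : ℕ} [hp : Fact p.Prime] (h : p ∣ q - 1) (h4 : p = 2 → 4 ∣ q - 1)
    (hW : DlLe p d M.Group) : DlLe p (d + 1) ↥(D.group F) := by
  obtain ⟨r, hr⟩ := CharP.exists F
  have hrp : Fact r.Prime := ⟨CharP.char_is_prime F r⟩
  have hfin : Finite M.Group := finW hp'
  have hq2 : 2 ≤ q := by
    rw [← hq]
    exact Fintype.one_lt_card
  have hpq : ¬ p ∣ q := by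
    intro h0
    have h1 : p ∣ 1 := by
      have h3 : q - (q - 1) = 1 := by omega
      rw [← h3]
      exact Nat.dvd_sub h0 h
    exact hp.out.one_lt.ne' (Nat.dvd_one.1 h1)
  have hTT : Nat.card ↥((D.diagonalSubgroup F).subgroupOf (D.group F)) = Nat.card ↥(D.diagonalSubgroup F) :=
    Nat.card_congr (Subgroup.subgroupOfEquivOfLe (Elts.diagonal_le_group hp'.inList F)).toEquiv
  refine dlLe_of_torus (rgd (K := F) hp' M.toCoxeterSystem r) (fun a ha b hb => ?_) ?_ hW
  · exact Subtype.ext (diag_comm hp'.inList (Subgroup.mem_subgroupOf.1 ha) (Subgroup.mem_subgroupOf.1 hb))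
  · rw [hTT]
    exact dvd_of_orders hpq hq2 h h4 hL hg hy (by rw [ht, hl]) hw

/-- `q` is the order of `F` -/
theorem dlLe_E6 {F : Type u} [Field F] [Fintype F] {q : ℕ} (hq : Fintype.card F = q) {p d : ℕ} [hp : Fact p.Prime]
    (h : p ∣ q - 1) (h4 : p = 2 → 4 ∣ q - 1) (hW : DlLe p d CoxeterMatrix.E₆.Group) :
    DlLe p (d + 1) ↥(chevE6.group F) := by
  refine dlLe_chev (D := chevE6) (l := 6) (M := CoxeterMatrix.E₆) (by simp [IsType, typeList]) hq
    (g := Nat.gcd 3 (q - 1)) (N := 36) (L := [2, 5, 6, 8, 9, 12]) (by simp) (Nat.gcd_pos_of_pos_left _ (by norm_num)).ne'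
    ?_ ?_ rfl ?_ h h4 hW
  · rw [S1063.result hq]
    simp only [List.map_cons, List.map_nil, List.prod_cons, List.prod_nil]
    ring
  · exact S1035.result hq (chevE6, Nat.gcd 3 (q - 1)) (by simp)
  · rw [card_E6]
    rfl

theorem dlLe_E7 {F : Type u} [Field F] [Fintype F] {q : ℕ} (hq : Fintype.card F = q) {p d : ℕ} [hp : Fact p.Prime]
    (h : p ∣ q - 1) (h4 : p = 2 → 4 ∣ q - 1) (hW : DlLe p d CoxeterMatrix.E₇.Group) :
    DlLe p (d + 1) ↥(chevE7.group F) := by
  refine dlLe_chev (D := chevE7) (l := 7) (M := CoxeterMatrix.E₇) (by simp [IsType, typeList]) hq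
    (g := Nat.gcd 2 (q - 1)) (N := 63) (L := [2, 6, 8, 10, 12, 14, 18]) (by simp)
    (Nat.gcd_pos_of_pos_left _ (by norm_num)).ne' ?_ ?_ rfl ?_ h h4 hW
  · rw [S1064.result hq]
    simp only [List.map_cons, List.map_nil, List.prod_cons, List.prod_nil]
    ring
  · exact S1035.result hq (chevE7, Nat.gcd 2 (q - 1)) (by simp)
  · rw [card_E7]
    rfl

theorem dlLe_E8 {F : Type u} [Field F] [Fintype F] {q : ℕ} (hq : Fintype.card F = q) {p d : ℕ} [hp : Fact p.Prime]
    (h : p ∣ q - 1) (h4 : p = 2 → 4 ∣ q - 1) (hW : DlLe p d CoxeterMatrix.E₈.Group) :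
    DlLe p (d + 1) ↥(chevE8.group F) := by
  refine dlLe_chev (D := chevE8) (l := 8) (M := CoxeterMatrix.E₈) (by simp [IsType, typeList]) hq
    (g := 1) (N := 120) (L := [2, 8, 12, 14, 18, 20, 24, 30]) (by simp) one_ne_zero ?_ ?_ rfl ?_ h h4 hW
  · rw [S1065.result hq]
    simp only [List.map_cons, List.map_nil, List.prod_cons, List.prod_nil]
    ring
  · exact S1035.result hq (chevE8, 1) (by simp)
  · rw [card_E8]
    rfl

theorem dlLe_F4 {F : Type u} [Field F] [Fintype F] {q : ℕ} (hq : Fintype.card F = q) {p d : ℕ} [hp : Fact p.Prime]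
    (h : p ∣ q - 1) (h4 : p = 2 → 4 ∣ q - 1) (hW : DlLe p d CoxeterMatrix.F₄.Group) :
    DlLe p (d + 1) ↥(chevF4.group F) := by
  refine dlLe_chev (D := chevF4) (l := 4) (M := CoxeterMatrix.F₄) (by simp [IsType, typeList]) hq
    (g := 1) (N := 24) (L := [2, 6, 8, 12]) (by simp) one_ne_zero ?_ ?_ rfl ?_ h h4 hW
  · rw [S1062.result hq]
    simp only [List.map_cons, List.map_nil, List.prod_cons, List.prod_nil]
    ring
  · exact S1035.result hq (chevF4, 1) (by simp)
  · rw [card_F4]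
    rfl

theorem dlLe_G2 {F : Type u} [Field F] [Fintype F] {q : ℕ} (hq : Fintype.card F = q) {p d : ℕ} [hp : Fact p.Prime]
    (h : p ∣ q - 1) (h4 : p = 2 → 4 ∣ q - 1) (hW : DlLe p d CoxeterMatrix.G₂.Group) :
    DlLe p (d + 1) ↥(chevG2.group F) := by
  refine dlLe_chev (D := chevG2) (l := 2) (M := CoxeterMatrix.G₂) (by simp [IsType, typeList]) hq
    (g := 1) (N := 6) (L := [2, 6]) (by simp) one_ne_zero ?_ ?_ rfl ?_ h h4 hW
  · rw [S1059.result hq]
    simp only [List.map_cons, List.map_nil, List.prod_cons, List.prod_nil]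
    ring
  · exact S1035.result hq (chevG2, 1) (by simp)
  · rw [card_G2]
    rfl

theorem dlLe_D4 {F : Type u} [Field F] [Fintype F] {q : ℕ} (hq : Fintype.card F = q) {p d : ℕ} [hp : Fact p.Prime]
    (h : p ∣ q - 1) (h4 : p = 2 → 4 ∣ q - 1) (hW : DlLe p d coxeterD4.Group) :
    DlLe p (d + 1) ↥(chevD4.group F) := by
  refine dlLe_chev (D := chevD4) (l := 4) (M := coxeterD4) (by simp [IsType, typeList]) hq
    (g := Nat.gcd 2 (q - 1) ^ 2) (N := 12) (L := [2, 4, 4, 6]) (by simp)
    (pow_ne_zero 2 (Nat.gcd_pos_of_pos_left _ (by norm_num)).ne') ?_ ?_ rfl ?_ h h4 hW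
  · rw [S1061.result hq]
    simp only [List.map_cons, List.map_nil, List.prod_cons, List.prod_nil]
    ring
  · exact S1035.result hq (chevD4, Nat.gcd 2 (q - 1) ^ 2) (by simp)
  · rw [card_D4]
    rfl

end Chev

/-! ### the hypothesis on `W` -/

/-- `DlLe p d W` from a bound for the `p`-groups of order `|W|_p` -/
theorem dlLe_of_card {W : Type u} [Group W] [Finite W] {p d a : ℕ} [hp : Fact p.Prime]
    (ha : padicValNat p (Nat.card W) = a)
    (h : ∀ (Q : Type u) [Group Q] [Finite Q], Nat.card Q = p ^ a → derivedSeries Q d = ⊥) : DlLe p d W := by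
  intro P
  refine h _ ?_
  rw [P.card_eq_multiplicity, Nat.factorization_def _ hp.out, ha]

/-! ### extension of the field -/

section Ext

open Cfsg.Agent.ChevalleyStructure Cfsg.Agent.ChevalleyStructure.Elts Cfsg.Agent.GpExc.Field

/-- **Extension of the field.** -/
theorem exists_hom_ext {D : ChevalleyDatum} (hD : InList D) {F : Type u} {F' : Type v} [Field F] [Field F']
    (f : F →+* F') : ∃ φ : ↥(D.group F) →* ↥(D.group F'), Function.Injective φ :=
  ⟨emb hD f, emb_injective hD f⟩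

/-- A finite field has extensions of every degree. -/
theorem exists_field_ext (F : Type u) [Field F] [Fintype F] {k : ℕ} (hk : k ≠ 0) :
    ∃ (F' : Type) (_ : Field F') (_ : Fintype F'), Fintype.card F' = Fintype.card F ^ k ∧ Nonempty (F →+* F') := by
  obtain ⟨r, hr⟩ := CharP.exists F
  have hrp : Fact r.Prime := ⟨CharP.char_is_prime F r⟩
  have hk0 : NeZero k := ⟨hk⟩
  have := Fintype.ofFinite (FiniteField.Extension F r k)
  refine ⟨FiniteField.Extension F r k, inferInstance, this, ?_, ⟨algebraMap F (FiniteField.Extension F r k)⟩⟩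
  rw [← Nat.card_eq_fintype_card, FiniteField.natCard_extension, Nat.card_eq_fintype_card]

/-- **The derived length over the extension field bounds the derived length.** -/
theorem dlLe_of_ext {D : ChevalleyDatum} (hD : InList D) {F : Type u} [Field F] [Fintype F] {k : ℕ} (hk : k ≠ 0)
    {p d : ℕ} (h : ∀ (F' : Type) [Field F'] [Fintype F'], Fintype.card F' = Fintype.card F ^ k →
      DlLe p d ↥(D.group F')) {G : Type w} [Group G] (ι : G →* ↥(D.group F)) (hι : Function.Injective ι) :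
    DlLe p d G := by
  obtain ⟨F', i1, i2, hc, ⟨f⟩⟩ := exists_field_ext F hk
  have h0 := h F' hc
  refine DlLe.of_hom ((emb hD f).comp ι) (fun g hg _ => ?_) fun Q hQ => ?_
  · exact hι (emb_injective hD f (by
      rw [map_one, map_one]
      exact hg))
  · obtain ⟨P, hP⟩ := hQ.exists_le_sylow
    let j : ↥Q →* ↥(P : Subgroup ↥(D.group F')) := Subgroup.inclusion hP
    have h1 : (derivedSeries ↥Q d).map j ≤ derivedSeries ↥(P : Subgroup ↥(D.group F')) d :=
      map_derivedSeries_le_derivedSeries j d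
    rw [h0 P, le_bot_iff, Subgroup.map_eq_bot_iff] at h1
    rw [eq_bot_iff]
    intro x hx
    have h2 := h1 hx
    rw [MonoidHom.mem_ker] at h2
    rw [Subgroup.mem_bot]
    exact Subgroup.inclusion_injective hP (by rw [map_one]; exact h2)

/-- the twisted groups lie in the untwisted ones -/
theorem exists_hom_E6 (K : Type u) [Field K] (q : ℕ) :
    ∃ φ : ↥(twistedE6 K q) →* ↥(chevE6.group K), Function.Injective φ :=
  ⟨Subgroup.inclusion (H778.Exc.genSubgroup_le_group (by simp [InList]) (e6Words K q)), Subgroup.inclusion_injective _⟩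

theorem exists_hom_D4 (K : Type u) [Field K] (q : ℕ) :
    ∃ φ : ↥(twistedD4 K q) →* ↥(chevD4.group K), Function.Injective φ :=
  ⟨Subgroup.inclusion (H778.Exc.genSubgroup_le_group (by simp [InList]) (d4Words K q)), Subgroup.inclusion_injective _⟩

theorem exists_hom_F4 (K : Type u) [Field K] (q : ℕ) :
    ∃ φ : ↥(twistedF4 K q) →* ↥(chevF4.group K), Function.Injective φ :=
  ⟨Subgroup.inclusion (H778.Exc.genSubgroup_le_group (by simp [InList]) (f4Words K q)), Subgroup.inclusion_injective _⟩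

end Ext

end Cfsg.Agent.H628.Dl
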